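import Mathlib.RingTheory.Localization.AtPrime.Basic
import Mathlib.RingTheory.Ideal.Quotient.Operations

/-! # Localization of a quotient at a prime -/

set_option autoImplicit false
set_option linter.style.haveILetI false
universe u

namespace Groth.Agent.JacPS3

theorem exists_localization_quotient_map {k R : Type u} [CommRing k] [CommRing R] [Algebra k R] (q p : Ideal R)
    [p.IsPrime] (hqp : q ≤ p) [(p.map (Ideal.Quotient.mk q)).IsPrime] :
    ∃ π : Localization.AtPrime p →ₐ[k] Localization.AtPrime (p.map (Ideal.Quotient.mk q)),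
      Function.Surjective π ∧ RingHom.ker π.toRingHom = q.map (algebraMap R (Localization.AtPrime p)) := by
  let p' := p.map (Ideal.Quotient.mk q)
  have hcomap : p'.comap (Ideal.Quotient.mk q) = p := by
    rw [Ideal.comap_map_of_surjective _ Ideal.Quotient.mk_surjective, ← RingHom.ker_eq_comap_bot, Ideal.mk_ker,
      sup_of_le_left hqp]
  have hmem : ∀ a, Ideal.Quotient.mk q a ∈ p' ↔ a ∈ p := fun a => by
    exact (Ideal.mem_comap (f := Ideal.Quotient.mk q) (K := p')).symm.trans (by rw [hcomap])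
  let g : R →ₐ[k] Localization.AtPrime p' :=
    (IsScalarTower.toAlgHom k (R ⧸ q) (Localization.AtPrime p')).comp (Ideal.Quotient.mkₐ k q)
  have hg : ∀ a, g a = algebraMap (R ⧸ q) (Localization.AtPrime p') (Ideal.Quotient.mk q a) := fun a => rfl
  have hu : ∀ y : p.primeCompl, IsUnit (g y) := fun y => by
    rw [hg]
    exact (IsLocalization.AtPrime.isUnit_to_map_iff _ p' _).2 fun h => y.2 ((hmem _).1 h)
  let π : Localization.AtPrime p →ₐ[k] Localization.AtPrime p' := IsLocalization.liftAlgHom hu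
  have hπ : ∀ a, π (algebraMap R _ a) = g a := fun a => IsLocalization.lift_eq _ a
  refine ⟨π, fun x => ?_, le_antisymm (fun x hx => ?_) (Ideal.map_le_iff_le_comap.2 fun a ha => ?_)⟩
  · obtain ⟨⟨a, ⟨t, ht⟩⟩, heq⟩ := IsLocalization.surj p'.primeCompl x
    obtain ⟨a, rfl⟩ := Ideal.Quotient.mk_surjective a
    obtain ⟨t, rfl⟩ := Ideal.Quotient.mk_surjective t
    refine ⟨IsLocalization.mk' _ a (⟨t, fun h => ht ((hmem t).2 h)⟩ : p.primeCompl), ?_⟩
    refine (IsLocalization.map_units (Localization.AtPrime p') (⟨_, ht⟩ : p'.primeCompl)).mul_left_inj.1 ?_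
    rw [heq, ← hg, ← hg, ← hπ, ← hπ, ← map_mul]
    exact congrArg π (IsLocalization.mk'_spec (Localization.AtPrime p) a _)
  · obtain ⟨a, t, rfl⟩ := IsLocalization.exists_mk'_eq p.primeCompl x
    have h1 : π (algebraMap R _ a) = 0 := by
      rw [← IsLocalization.mk'_spec' (Localization.AtPrime p) a t, map_mul,
        show π (IsLocalization.mk' _ a t) = 0 from hx, mul_zero]
    rw [hπ, hg, IsLocalization.map_eq_zero_iff p'.primeCompl] at h1
    obtain ⟨⟨c, hc⟩, hca⟩ := h1
    obtain ⟨c, rfl⟩ := Ideal.Quotient.mk_surjective c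
    rw [← map_mul, Ideal.Quotient.eq_zero_iff_mem] at hca
    rw [IsLocalization.mk'_eq_mul_mk'_one]
    refine Ideal.mul_mem_right _ _ ?_
    have hcu : IsUnit (algebraMap R (Localization.AtPrime p) c) :=
      IsLocalization.map_units _ (⟨c, fun h => hc ((hmem c).2 h)⟩ : p.primeCompl)
    rw [← Ideal.unit_mul_mem_iff_mem _ hcu, ← map_mul]
    exact Ideal.mem_map_of_mem _ hca
  · show π (algebraMap R _ a) = 0
    rw [hπ, hg, Ideal.Quotient.eq_zero_iff_mem.2 ha, map_zero]

end Groth.Agent.JacPS3
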