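import Groth.Agent.Lib.RegLoc.Basic
import Groth.Agent.Lib.CohenAlg3.Exists
import Mathlib.RingTheory.Derivation.Basic
import Mathlib.LinearAlgebra.Matrix.NonsingularInverse
import Mathlib.RingTheory.Ideal.KrullsHeightTheorem

/-! # Jacobian criterion: necessity, via a family of derivations with enough rank -/

set_option autoImplicit false
set_option linter.style.haveILetI false
universe u

namespace Groth.Agent.JacPS3

open IsLocalRing

variable {k A L : Type u} [CommRing k] [CommRing A] [Algebra k A] [Field L] {r : ℕ}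
  (φ : A →+* L) (D : Fin r → Derivation k A A)

/-- The gradient of an element along the family of derivations. -/
def grad (a : A) : Fin r → L := fun j => φ (D j a)

theorem grad_add (a b : A) : grad φ D (a + b) = grad φ D a + grad φ D b := by
  ext j
  simp [grad]

theorem grad_mul (a b : A) : grad φ D (a * b) = φ a • grad φ D b + φ b • grad φ D a := by
  ext j
  simp [grad, Derivation.leibniz]

theorem grad_zero : grad φ D (0 : A) = 0 := by
  ext j
  simp [grad]

theorem grad_mem_of_mem_span {S : Set A} (hS : ∀ a ∈ S, φ a = 0) {a : A} (ha : a ∈ Ideal.span S) :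
    φ a = 0 ∧ grad φ D a ∈ Submodule.span L (grad φ D '' S) := by
  induction ha using Submodule.span_induction with
  | mem x hx => exact ⟨hS x hx, Submodule.subset_span ⟨x, hx, rfl⟩⟩
  | zero => exact ⟨map_zero φ, by rw [grad_zero]; exact zero_mem _⟩
  | add x y _ _ hx hy => exact ⟨by rw [map_add, hx.1, hy.1, add_zero], by rw [grad_add]; exact add_mem hx.2 hy.2⟩
  | smul c x _ hx =>
    refine ⟨by rw [smul_eq_mul, map_mul, hx.1, mul_zero], ?_⟩
    rw [smul_eq_mul, grad_mul, hx.1, zero_smul, add_zero]
    exact Submodule.smul_mem _ _ hx.2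

theorem grad_mem_of_mul_mem_span {S : Set A} (hS : ∀ a ∈ S, φ a = 0) {s a : A} (hs : φ s ≠ 0)
    (h : s * a ∈ Ideal.span S) (ha : φ a = 0) : grad φ D a ∈ Submodule.span L (grad φ D '' S) := by
  have h1 := (grad_mem_of_mem_span φ D hS h).2
  rw [grad_mul, ha, zero_smul, add_zero] at h1
  simpa [smul_smul, inv_mul_cancel₀ hs] using Submodule.smul_mem _ (φ s)⁻¹ h1

variable {p : Ideal A} [p.IsPrime]

theorem exists_mul_mem_span {S : Set A} {a : A}
    (h : algebraMap A (Localization.AtPrime p) a ∈ Ideal.span (algebraMap A (Localization.AtPrime p) '' S)) :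
    ∃ s ∉ p, s * a ∈ Ideal.span S := by
  rw [← Ideal.map_span] at h
  obtain ⟨⟨⟨x, hx⟩, ⟨t, ht⟩⟩, heq⟩ := (IsLocalization.mem_map_algebraMap_iff p.primeCompl _).1 h
  rw [← map_mul] at heq
  obtain ⟨⟨c, hc⟩, hce⟩ := (IsLocalization.eq_iff_exists p.primeCompl _).1 heq
  refine ⟨c * t, fun hmem => (Ideal.IsPrime.mem_or_mem ‹_› hmem).elim hc ht, ?_⟩
  have : c * t * a = c * x := by rw [mul_assoc, mul_comm t a]; exact hce
  rw [this]
  exact Ideal.mul_mem_left _ c hx

theorem maximalIdeal_le_of_span {ι : Type*} [Fintype ι] {h : ℕ} (hφ : RingHom.ker φ = p)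
    (g : Fin h → A) (hg : ∀ i, g i ∈ p)
    (hgen : Ideal.span (algebraMap A (Localization.AtPrime p) '' Set.range g) = maximalIdeal (Localization.AtPrime p))
    (e : ι → A) (he : ∀ i, e i ∈ p) (hcard : Fintype.card ι = h) (hli : LinearIndependent L fun i => grad φ D (e i)) :
    maximalIdeal (Localization.AtPrime p) ≤ Ideal.span (algebraMap A (Localization.AtPrime p) '' Set.range e) := by
  classical
  let σ : ι ≃ Fin h := Fintype.equivFinOfCardEq hcard
  set e' := fun i => e (σ.symm i) with he'
  have hli' : LinearIndependent L fun i => grad φ D (e' i) := hli.comp _ σ.symm.injective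
  have hmem : ∀ i, ∃ s ∉ p, ∃ M : Fin h → A, s * e' i = ∑ j, M j * g j := fun i => by
    obtain ⟨s, hs, hse⟩ := exists_mul_mem_span (p := p) (S := Set.range g) (a := e' i) (by
      rw [hgen]
      exact Localization.AtPrime.map_eq_maximalIdeal (I := p) ▸ Ideal.mem_map_of_mem _ (he _))
    obtain ⟨M, hM⟩ := (Ideal.mem_span_range_iff_exists_fun).1 hse
    exact ⟨s, hs, M, hM.symm⟩
  choose s hs M hM using hmem
  have hφp : ∀ {a : A}, a ∈ p → φ a = 0 := fun ha => RingHom.mem_ker.1 (hφ.ge ha)
  have hφs : ∀ i, φ (s i) ≠ 0 := fun i h0 => hs i (hφ.le h0)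
  have hrow : ∀ i, φ (s i) • grad φ D (e' i) = ∑ j, φ (M i j) • grad φ D (g j) := fun i => by
    have h1 : grad φ D (s i * e' i) = grad φ D (∑ j, M i j * g j) := by rw [hM]
    rw [grad_mul, hφp (he _), zero_smul, add_zero] at h1
    rw [h1]
    have hsum : ∀ (T : Finset (Fin h)), grad φ D (∑ j ∈ T, M i j * g j) = ∑ j ∈ T, φ (M i j) • grad φ D (g j) := by
      intro T
      induction T using Finset.induction with
      | empty => simp [grad_zero]
      | insert a T ha ih =>
        rw [Finset.sum_insert ha, Finset.sum_insert ha, grad_add, ih, grad_mul, hφp (hg _), zero_smul, add_zero]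
    exact hsum _
  let Mb : Matrix (Fin h) (Fin h) L := fun i j => φ (M i j)
  have hMb : IsUnit Mb := by
    rw [← Matrix.linearIndependent_rows_iff_isUnit]
    have h2 : LinearIndependent L fun i => φ (s i) • grad φ D (e' i) :=
      hli'.units_smul fun i => Units.mk0 _ (hφs i)
    refine LinearIndependent.of_comp (Fintype.linearCombination L fun j => grad φ D (g j)) ?_
    have : (Fintype.linearCombination L fun j => grad φ D (g j)) ∘ Mb.row = fun i => φ (s i) • grad φ D (e' i) :=
      funext fun i => by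
        rw [Function.comp_apply, Fintype.linearCombination_apply, hrow]
        rfl
    rw [this]
    exact h2
  let M' : Matrix (Fin h) (Fin h) (Localization.AtPrime p) :=
    fun i j => algebraMap A (Localization.AtPrime p) (M i j)
  have hM' : IsUnit M'.det := by
    have hd : M'.det = algebraMap A (Localization.AtPrime p) (Matrix.det (Matrix.of M)) := by
      rw [RingHom.map_det]
      rfl
    rw [hd, IsLocalization.AtPrime.isUnit_to_map_iff (Localization.AtPrime p) p]
    intro hmem
    have hd0 : φ (Matrix.det (Matrix.of M)) = 0 := hφp hmem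
    rw [RingHom.map_det] at hd0
    exact ((Matrix.isUnit_iff_isUnit_det _).1 hMb).ne_zero hd0
  rw [← hgen, Ideal.span_le]
  rintro _ ⟨_, ⟨j, rfl⟩, rfl⟩
  let gv : Fin h → Localization.AtPrime p := fun j => algebraMap A _ (g j)
  have hgv : gv = M'⁻¹.mulVec (M'.mulVec gv) := by
    rw [Matrix.mulVec_mulVec, Matrix.nonsing_inv_mul _ hM', Matrix.one_mulVec]
  show gv j ∈ _
  rw [hgv, SetLike.mem_coe]
  simp only [Matrix.mulVec, dotProduct]
  refine Ideal.sum_mem _ fun i _ => Ideal.mul_mem_left _ _ ?_
  change M'.mulVec gv i ∈ _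
  have h3 : M'.mulVec gv i = algebraMap A (Localization.AtPrime p) (s i) * algebraMap A _ (e' i) := by
    rw [← map_mul, hM, map_sum]
    simp [Matrix.mulVec, dotProduct, M', gv, map_mul]
  rw [h3]
  exact Ideal.mul_mem_left _ _ (Ideal.subset_span ⟨_, ⟨_, rfl⟩, rfl⟩)

/-- Necessity in the Jacobian criterion. -/
theorem exists_jacobian_of_regular [IsRegularLocalRing (Localization.AtPrime p)]
    (hφ : RingHom.ker φ = p)
    (hrank : (maximalIdeal (Localization.AtPrime p)).spanFinrank ≤
      Module.finrank L (Submodule.span L (grad φ D '' (p : Set A))))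
    (q : Ideal A) (hqp : q ≤ p)
    [IsRegularLocalRing (Localization.AtPrime p ⧸ q.map (algebraMap A (Localization.AtPrime p)))] :
    ∃ (m : ℕ) (f : Fin m → A) (c : Fin m → Fin r), (∀ i, f i ∈ q) ∧
      q.map (algebraMap A (Localization.AtPrime p)) =
        Ideal.span (Set.range fun i => algebraMap A (Localization.AtPrime p) (f i)) ∧
      Matrix.det (Matrix.of fun i j => D (c i) (f j)) ∉ p := by
  classical
  set R := Localization.AtPrime p
  set ι := algebraMap A R with hι
  have hφp : ∀ {a : A}, a ∈ p → φ a = 0 := fun ha => RingHom.mem_ker.1 (hφ.ge ha)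
  have hφn : ∀ {a : A}, a ∉ p → φ a ≠ 0 := fun ha h0 => ha (hφ.le h0)
  -- generators of the maximal ideal from the ring
  obtain ⟨h, hh, G, hG⟩ : ∃ h, h = (maximalIdeal R).spanFinrank ∧
      ∃ G : Fin h → R, Ideal.span (Set.range G) = maximalIdeal R := ⟨_, rfl, CohenAlg3.exists_fin_gens⟩
  choose g₀ hg₀ using fun i => IsLocalization.surj p.primeCompl (G i)
  let g : Fin _ → A := fun i => (g₀ i).1
  have hgen : Ideal.span (ι '' Set.range g) = maximalIdeal R := by
    rw [← hG, ← Set.range_comp]
    refine le_antisymm (Ideal.span_le.2 ?_) (Ideal.span_le.2 ?_)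
    · rintro _ ⟨i, rfl⟩
      show ι (g i) ∈ _
      rw [hι, ← hg₀ i]
      exact Ideal.mul_mem_right _ _ (Ideal.subset_span ⟨i, rfl⟩)
    · rintro _ ⟨i, rfl⟩
      have hu := IsLocalization.map_units R (g₀ i).2
      rw [show G i = G i * algebraMap A R (g₀ i).2 * ((hu.unit⁻¹ : Rˣ) : R) by rw [mul_assoc, hu.mul_val_inv, mul_one]]
      refine Ideal.mul_mem_right _ _ ?_
      rw [hg₀ i]
      exact Ideal.subset_span ⟨i, rfl⟩
  have hg : ∀ i, g i ∈ p := fun i => by
    have : ι (g i) ∈ maximalIdeal R := hgen ▸ Ideal.subset_span ⟨_, ⟨i, rfl⟩, rfl⟩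
    exact (IsLocalization.AtPrime.to_map_mem_maximal_iff R p _).1 this
  let W := Submodule.span L (grad φ D '' (p : Set A))
  have hWg : W ≤ Submodule.span L (grad φ D '' Set.range g) := Submodule.span_le.2 (by
    rintro _ ⟨a, ha, rfl⟩
    obtain ⟨s, hs, hsa⟩ := exists_mul_mem_span (p := p) (S := Set.range g) (a := a) (by
      rw [hgen]
      exact (IsLocalization.AtPrime.to_map_mem_maximal_iff R p _).2 ha)
    exact grad_mem_of_mul_mem_span φ D (by rintro _ ⟨i, rfl⟩; exact hφp (hg i)) (hφn hs) hsa (hφp ha))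
  -- select the equations
  let Wq := Submodule.span L (grad φ D '' (q : Set A))
  obtain ⟨m, hm, vq, hvmem, hvspan, hvli⟩ : ∃ m, m = Module.finrank L Wq ∧
      ∃ vq : Fin m → (Fin r → L), (∀ i, vq i ∈ grad φ D '' (q : Set A)) ∧
        Submodule.span L (Set.range vq) = Wq ∧ LinearIndependent L vq :=
    ⟨_, rfl, Submodule.exists_fun_fin_finrank_span_eq L (grad φ D '' (q : Set A))⟩
  choose f hfq hfv using hvmem
  have hfp : ∀ i, f i ∈ p := fun i => hqp (hfq i)
  let w : Fin m ⊕ Fin h → (Fin r → L) := Sum.elim (fun i => grad φ D (f i)) (fun i => grad φ D (g i))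
  have hinl : LinearIndepOn L w (Set.range Sum.inl) := by
    rw [linearIndepOn_range_iff Sum.inl_injective]
    simpa [w, Function.comp_def, hfv] using hvli
  obtain ⟨b, -, hsb, hbspan, hbli⟩ := exists_linearIndepOn_extension hinl (Set.subset_univ _)
  let E : Fin m ⊕ Fin h → A := Sum.elim f g
  have hE : ∀ x, E x ∈ p := fun x => by rcases x with i | i <;> simp [E, hfp, hg]
  have hwE : ∀ x, w x = grad φ D (E x) := fun x => by rcases x with i | i <;> rfl
  have hcard : Fintype.card b = h := by
    have hWb : W ≤ Submodule.span L (w '' b) := hWg.trans (Submodule.span_le.2 (by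
      rintro _ ⟨_, ⟨i, rfl⟩, rfl⟩
      exact hbspan ⟨Sum.inr i, trivial, rfl⟩))
    have hle : Submodule.span L (w '' b) ≤ W := Submodule.span_le.2 (by
      rintro _ ⟨x, -, rfl⟩
      rw [hwE]
      exact Submodule.subset_span ⟨_, hE x, rfl⟩)
    have hfin : Module.finrank L (Submodule.span L (w '' b)) = Fintype.card b := by
      rw [Set.image_eq_range]
      exact finrank_span_eq_card hbli
    have h1 : h ≤ Fintype.card b := by
      rw [← hfin, ← le_antisymm hWb hle]
      exact hh ▸ hrank
    have h2 : Fintype.card b ≤ h := by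
      rw [← hfin, le_antisymm hle hWb]
      refine (Submodule.finrank_mono hWg).trans ?_
      rw [← Set.range_comp]
      exact (finrank_range_le_card _).trans (Fintype.card_fin h).le
    omega
  have hmax := maximalIdeal_le_of_span φ D hφ g hg hgen (fun x : b => E x.1) (fun x => hE _) hcard
    (by simpa [Function.comp_def, hwE] using hbli.linearIndependent)
  -- the quotient by the equations
  let I := Ideal.span (Set.range fun i => ι (f i))
  have hIq : I ≤ q.map ι := Ideal.span_le.2 (by rintro _ ⟨i, rfl⟩; exact Ideal.mem_map_of_mem _ (hfq i))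
  have hqm : q.map ι ≤ maximalIdeal R := Ideal.map_le_iff_le_comap.2 fun a ha =>
    (IsLocalization.AtPrime.to_map_mem_maximal_iff R p _).2 (hqp ha)
  haveI : Nontrivial (R ⧸ I) := Ideal.Quotient.nontrivial_iff.2 fun h0 =>
    (maximalIdeal.isMaximal R).ne_top (top_le_iff.1 (h0 ▸ hIq.trans hqm))
  haveI : IsLocalRing (R ⧸ I) := IsLocalRing.of_surjective' _ Ideal.Quotient.mk_surjective
  let T := Finset.univ.filter fun j : Fin h => Sum.inr j ∈ b
  have hT : m + T.card = h := by
    refine Eq.trans ?_ hcard
    rw [← Set.toFinset_card, ← Finset.card_toLeft_add_card_toRight]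
    congr 1
    · rw [show b.toFinset.toLeft = Finset.univ from Finset.eq_univ_of_forall fun i =>
        Finset.mem_toLeft.2 (Set.mem_toFinset.2 (hsb ⟨i, rfl⟩)), Finset.card_univ, Fintype.card_fin]
    · congr 1
      ext j
      simp [T]
  have hgen1 : (maximalIdeal (R ⧸ I)).spanFinrank ≤ T.card := by
    have hsp : maximalIdeal (R ⧸ I) ≤ Ideal.span ((fun j => Ideal.Quotient.mk I (ι (g j))) '' T) := by
      rw [← map_maximalIdeal_of_surjective _ Ideal.Quotient.mk_surjective]
      refine (Ideal.map_mono hmax).trans ?_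
      rw [Ideal.map_span, Ideal.span_le]
      rintro _ ⟨_, ⟨_, ⟨⟨x, hx⟩, rfl⟩, rfl⟩, rfl⟩
      rcases x with i | j
      · show Ideal.Quotient.mk I (ι (f i)) ∈ _
        rw [Ideal.Quotient.eq_zero_iff_mem.2 (Ideal.subset_span ⟨i, rfl⟩ : ι (f i) ∈ I)]
        exact zero_mem _
      · exact Ideal.subset_span ⟨j, by simpa [T] using hx, rfl⟩
    have heq : maximalIdeal (R ⧸ I) = Ideal.span ((fun j => Ideal.Quotient.mk I (ι (g j))) '' T) := by
      refine le_antisymm hsp (Ideal.span_le.2 ?_)
      rintro _ ⟨j, -, rfl⟩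
      rw [← map_maximalIdeal_of_surjective _ Ideal.Quotient.mk_surjective]
      exact Ideal.mem_map_of_mem _ ((IsLocalization.AtPrime.to_map_mem_maximal_iff R p _).2 (hg j))
    rw [heq, Ideal.span]
    refine (Submodule.spanFinrank_span_le_ncard_of_finite (T.finite_toSet.image _)).trans ?_
    exact (Set.ncard_image_le T.finite_toSet).trans (Set.ncard_coe_finset T).le
  have hdim1 : (h : WithBot ℕ∞) ≤ ringKrullDim (R ⧸ I) + (m : ℕ) := by
    rw [hh, IsRegularLocalRing.spanFinrank_maximalIdeal (R := R)]
    refine (ringKrullDim_le_ringKrullDim_quotient_add_spanFinrank I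
      ((hIq.trans hqm).trans_eq (IsLocalRing.ringJacobson_eq_maximalIdeal (R := R)).symm)).trans (add_le_add le_rfl ?_)
    norm_cast
    refine (Submodule.spanFinrank_span_le_ncard_of_finite (Set.finite_range _)).trans ?_
    rw [← Set.image_univ]
    exact (Set.ncard_image_le Set.finite_univ).trans (by simp)
  haveI : IsRegularLocalRing (R ⧸ I) := by
    refine IsRegularLocalRing.of_spanFinrank_maximalIdeal_le _ ?_
    rw [← hT, Nat.cast_add, add_comm] at hdim1
    exact le_trans (by exact_mod_cast hgen1) (ENat.WithBot.add_le_add_natCast_right_iff.1 hdim1)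
  -- equality with the ideal
  have hdim2 : T.card ≤ (maximalIdeal (R ⧸ q.map ι)).spanFinrank := by
    obtain ⟨G2, hG2⟩ := CohenAlg3.exists_fin_gens (R := R ⧸ q.map ι)
    choose y hy using fun i => Ideal.Quotient.mk_surjective (I := q.map ι) (G2 i)
    choose y₀ hy₀ using fun i => IsLocalization.surj p.primeCompl (y i)
    let z : Fin _ → A := fun i => (y₀ i).1
    have hzp : ∀ i, z i ∈ p := fun i => by
      refine (IsLocalization.AtPrime.to_map_mem_maximal_iff R p _).1 ?_
      rw [← hy₀ i]
      refine Ideal.mul_mem_right _ _ ?_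
      by_contra hu
      have h5 : IsUnit (G2 i) := hy i ▸ (IsUnit.map (Ideal.Quotient.mk (q.map ι)) (not_not.1 hu))
      exact (mem_maximalIdeal _).1 (hG2 ▸ Ideal.subset_span ⟨i, rfl⟩) h5
    have hW2 : W ≤ Wq ⊔ Submodule.span L (grad φ D '' Set.range z) := by
      refine Submodule.span_le.2 ?_
      rintro _ ⟨a, ha, rfl⟩
      have h6 : ι a ∈ Ideal.span (ι '' ((q : Set A) ∪ Set.range z)) := by
        have hmem : Ideal.Quotient.mk (q.map ι) (ι a) ∈ maximalIdeal (R ⧸ q.map ι) := by
          rw [← map_maximalIdeal_of_surjective _ Ideal.Quotient.mk_surjective]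
          exact Ideal.mem_map_of_mem _ ((IsLocalization.AtPrime.to_map_mem_maximal_iff R p _).2 ha)
        rw [← hG2, show Set.range G2 = Ideal.Quotient.mk (q.map ι) '' Set.range y by
          rw [← Set.range_comp]; exact congrArg Set.range (funext fun i => (hy i).symm), ← Ideal.map_span] at hmem
        rw [Ideal.mem_quotient_iff_mem_sup] at hmem
        rw [Set.image_union, Ideal.span_union]
        refine (sup_le ?_ ?_ : Ideal.span (Set.range y) ⊔ q.map ι ≤ _) hmem
        · refine le_sup_of_le_right (Ideal.span_le.2 ?_)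
          rintro _ ⟨i, rfl⟩
          have hu := IsLocalization.map_units R (y₀ i).2
          rw [show y i = y i * algebraMap A R (y₀ i).2 * ((hu.unit⁻¹ : Rˣ) : R) by rw [mul_assoc, hu.mul_val_inv, mul_one]]
          refine Ideal.mul_mem_right _ _ ?_
          rw [hy₀ i]
          exact Ideal.subset_span ⟨_, ⟨i, rfl⟩, rfl⟩
        · refine le_sup_of_le_left ?_
          rw [← Ideal.map_span, Ideal.span_eq]
      obtain ⟨s, hs, hsa⟩ := exists_mul_mem_span (p := p) h6
      have h7 := grad_mem_of_mul_mem_span φ D (S := (q : Set A) ∪ Set.range z) (by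
        rintro x (hx | ⟨i, rfl⟩)
        · exact hφp (hqp hx)
        · exact hφp (hzp i)) (hφn hs) hsa (hφp ha)
      rwa [Set.image_union, Submodule.span_union] at h7
    have h8 := (hh ▸ hrank : h ≤ Module.finrank L W).trans ((Submodule.finrank_mono hW2).trans (Submodule.finrank_add_le_finrank_add_finrank _ _))
    have h9 : Module.finrank L (Submodule.span L (grad φ D '' Set.range z)) ≤
        (maximalIdeal (R ⧸ q.map ι)).spanFinrank := by
      rw [← Set.range_comp]
      exact (finrank_range_le_card _).trans (Fintype.card_fin _).le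
    omega
  have hinj := CohenAlg3.injective_of_surjective_regular (Ideal.Quotient.factor hIq)
    (Ideal.Quotient.factor_surjective hIq)
    ((ringKrullDim_le_spanFinrank_maximalIdeal _).trans
      (le_trans (by exact_mod_cast hgen1.trans hdim2) (IsRegularLocalRing.spanFinrank_maximalIdeal (R := R ⧸ q.map ι)).le))
  have hqI : q.map ι = I := le_antisymm (fun x hx => Ideal.Quotient.eq_zero_iff_mem.1 (hinj (by
    rw [map_zero, Ideal.Quotient.factor_mk, Ideal.Quotient.eq_zero_iff_mem]; exact hx))) hIq
  -- a nonvanishing minor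
  let J : Matrix (Fin m) (Fin r) L := fun i j => φ (D j (f i))
  have hJ : LinearIndependent L J.row := by
    rw [show J.row = vq from funext fun i => hfv i]
    exact hvli
  have hcol : Submodule.span L (Set.range J.col) = ⊤ := by
    refine Submodule.eq_top_of_finrank_eq ?_
    rw [← Matrix.rank_eq_finrank_span_cols, hJ.rank_matrix, Module.finrank_fin_fun, Fintype.card_fin]
  obtain ⟨cv, hcv, -, hcli⟩ := Submodule.exists_fun_fin_finrank_span_eq L (Set.range J.col)
  have hcm : Module.finrank L (Submodule.span L (Set.range J.col)) = m := by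
    rw [hcol, finrank_top, Module.finrank_fin_fun]
  choose c₀ hc₀ using hcv
  let c : Fin m → Fin r := fun i => c₀ (Fin.cast hcm.symm i)
  refine ⟨m, f, c, hfq, hqI, fun hdet => ?_⟩
  have hunit : IsUnit (Matrix.of fun i j => φ (D (c i) (f j))) := by
    rw [← Matrix.linearIndependent_rows_iff_isUnit]
    have h10 : (Matrix.of fun i j => φ (D (c i) (f j))).row = cv ∘ Fin.cast hcm.symm := funext fun i => by
      rw [Function.comp_apply, ← hc₀]
      rfl
    rw [h10]
    exact hcli.comp _ (Fin.cast_injective _)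
  refine ((Matrix.isUnit_iff_isUnit_det _).1 hunit).ne_zero ?_
  have := hφp hdet
  rwa [RingHom.map_det] at this

end Groth.Agent.JacPS3
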