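import Groth.Agent.Lib.JacPS3.Necessary
import Groth.Agent.Lib.CKaehlerFree3.Top
import Groth.Agent.Lib.Compl.Complete
import Groth.Agent.Lib.ArtFun.PS
import Groth.Agent.Lib.VarDim.Alg
import Groth.Agent.Lib.LocCoh.Faltings27
import Groth.Agent.Lib.Cohen.Structure
import Mathlib.LinearAlgebra.Dual.Lemmas
import Mathlib.RingTheory.Localization.Integral
import Mathlib.RingTheory.MvPowerSeries.Derivative

/-! # Partial derivatives at a prime of a power series ring -/

set_option autoImplicit false
set_option linter.style.haveILetI false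
universe u

namespace Groth.Agent.JacPS3

open IsLocalRing

/-- A derivation on power series into a separated module is determined by the variables. -/
theorem derivation_eq_zero {k : Type u} [Field k] {s : ℕ} {M : Type u} [AddCommGroup M] [Module k M]
    [Module (MvPowerSeries (Fin s) k) M] [IsScalarTower k (MvPowerSeries (Fin s) k) M]
    [IsHausdorff (maximalIdeal (MvPowerSeries (Fin s) k)) M]
    (d : Derivation k (MvPowerSeries (Fin s) k) M) (h : ∀ i, d (MvPowerSeries.X i) = 0)
    (f : MvPowerSeries (Fin s) k) : d f = 0 := by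
  refine IsHausdorff.haus ‹IsHausdorff (maximalIdeal (MvPowerSeries (Fin s) k)) M› _ fun n => ?_
  rw [SModEq.zero, ← Derivation.liftKaehlerDifferential_comp_D d f]
  have hle : Submodule.map d.liftKaehlerDifferential ⊤ ≤
      maximalIdeal (MvPowerSeries (Fin s) k) ^ n • (⊤ : Submodule (MvPowerSeries (Fin s) k) M) := by
    rw [← CKaehlerFree3.span_D_X_sup_pow n, Submodule.map_sup, sup_le_iff]
    constructor
    · rw [Submodule.map_span, Submodule.span_le]
      rintro _ ⟨_, ⟨i, rfl⟩, rfl⟩
      rw [Derivation.liftKaehlerDifferential_comp_D, h]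
      exact zero_mem _
    · rw [Submodule.map_smul'']
      exact Submodule.smul_mono le_rfl le_top
  exact hle ⟨_, trivial, rfl⟩

/-- A derivation killing a subring kills every element separable over its fraction field. -/
theorem derivation_eq_zero_of_separable {P C L' L : Type u} [CommRing P] [IsDomain P] [CommRing C] [Algebra P C]
    [Field L'] [Algebra P L'] [IsFractionRing P L'] [Field L] [Algebra C L] [Algebra P L] [IsScalarTower P C L]
    [Algebra L' L] [IsScalarTower P L' L] [Algebra.IsSeparable L' L]
    (hinj : Function.Injective (algebraMap C L)) (d : Derivation P C C) (c : C) : d c = 0 := by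
  haveI : IsDomain C := hinj.isDomain (algebraMap C L)
  have hsep : (minpoly L' (algebraMap C L c)).Separable := Algebra.IsSeparable.isSeparable L' (algebraMap C L c)
  obtain ⟨b, hb, hmap⟩ := IsLocalization.integerNormalization_spec (nonZeroDivisors P)
    (minpoly L' (algebraMap C L c))
  set μ := IsLocalization.integerNormalization (nonZeroDivisors P) (minpoly L' (algebraMap C L c))
  have h0 : Polynomial.aeval c μ = 0 := hinj (by
    rw [map_zero, ← Polynomial.aeval_algebraMap_apply]
    exact IsLocalization.integerNormalization_aeval_eq_zero _ _ (minpoly.aeval L' _))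
  have h1 := d.map_aeval μ c
  rw [h0, map_zero, smul_eq_mul] at h1
  refine (mul_eq_zero.1 h1.symm).resolve_left fun h2 => ?_
  have h3 : Polynomial.aeval (algebraMap C L c) (Polynomial.derivative μ) = 0 := by
    rw [Polynomial.aeval_algebraMap_apply, h2, map_zero]
  rw [← Polynomial.aeval_map_algebraMap L', ← Polynomial.derivative_map, hmap, Polynomial.derivative_smul,
    Algebra.smul_def, map_mul, mul_eq_zero] at h3
  rcases h3 with h3 | h3
  · rw [Polynomial.algebraMap_apply, Polynomial.aeval_C, map_eq_zero] at h3
    exact nonZeroDivisors.ne_zero hb (IsFractionRing.injective P L' (h3.trans (map_zero _).symm))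
  · exact hsep.aeval_derivative_ne_zero (minpoly.aeval L' _) h3

variable {k : Type u} [Field k] {r : ℕ}

/-- The gradients of a prime with separable normalization have full rank. -/
theorem spanFinrank_le_finrank_grad (p : Ideal (MvPowerSeries (Fin r) k)) [p.IsPrime]
    [IsRegularLocalRing (Localization.AtPrime p)]
    (s : ℕ) [Algebra (MvPowerSeries (Fin s) k) (MvPowerSeries (Fin r) k ⧸ p)]
    [IsScalarTower k (MvPowerSeries (Fin s) k) (MvPowerSeries (Fin r) k ⧸ p)]
    [Module.Finite (MvPowerSeries (Fin s) k) (MvPowerSeries (Fin r) k ⧸ p)]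
    (hinj : Function.Injective (algebraMap (MvPowerSeries (Fin s) k) (MvPowerSeries (Fin r) k ⧸ p)))
    {L' L : Type u} [Field L'] [Field L]
    [Algebra (MvPowerSeries (Fin s) k) L'] [IsFractionRing (MvPowerSeries (Fin s) k) L']
    [Algebra (MvPowerSeries (Fin r) k ⧸ p) L] [IsFractionRing (MvPowerSeries (Fin r) k ⧸ p) L]
    [Algebra L' L] [Algebra (MvPowerSeries (Fin s) k) L]
    [IsScalarTower (MvPowerSeries (Fin s) k) (MvPowerSeries (Fin r) k ⧸ p) L]
    [IsScalarTower (MvPowerSeries (Fin s) k) L' L] [Algebra.IsSeparable L' L] :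
    (maximalIdeal (Localization.AtPrime p)).spanFinrank ≤
      Module.finrank L (Submodule.span L (grad ((algebraMap (MvPowerSeries (Fin r) k ⧸ p) L).comp (Ideal.Quotient.mk p))
        (fun j => MvPowerSeries.pderiv k j) '' (p : Set (MvPowerSeries (Fin r) k)))) := by
  classical
  let R := MvPowerSeries (Fin r) k
  let P := MvPowerSeries (Fin s) k
  let C := R ⧸ p
  set φ : R →+* L := (algebraMap C L).comp (Ideal.Quotient.mk p)
  let D : Fin r → Derivation k R R := fun j => MvPowerSeries.pderiv k j
  let W := Submodule.span L (grad φ D '' (p : Set R))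
  haveI := H2Alg.PSHom.isRegularLocalRing k r
  haveI := H2Alg.PSHom.isRegularLocalRing k s
  haveI : IsDomain P := RegLoc.isDomain P
  have hιinj : Function.Injective (algebraMap C L) := IsFractionRing.injective C L
  choose a ha using fun i : Fin s => Ideal.Quotient.mk_surjective (I := p) (algebraMap P C (MvPowerSeries.X i))
  let Ψ : W.dualAnnihilator →ₗ[L] (Fin s → L) :=
    { toFun := fun ℓ i => (ℓ : Module.Dual L (Fin r → L)) (grad φ D (a i))
      map_add' := fun _ _ => rfl
      map_smul' := fun _ _ => rfl }
  haveI : IsAdicComplete (maximalIdeal k) k := by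
    rw [show maximalIdeal k = ⊥ from IsLocalRing.maximalIdeal_eq_bot]; infer_instance
  haveI : IsAdicComplete (maximalIdeal P) P := ArtFunLib.isAdicComplete_mvPowerSeries
  haveI : IsAdicComplete (maximalIdeal P) C := Compl.isAdicComplete_of_finite (maximalIdeal P) C
  have hΨ : Function.Injective Ψ := by
    rw [injective_iff_map_eq_zero]
    intro ℓ hℓ
    set v : Fin r → L := fun j => (ℓ : Module.Dual L (Fin r → L)) (Pi.single j 1) with hv
    have hℓv : ∀ w : Fin r → L, (ℓ : Module.Dual L (Fin r → L)) w = ∑ j, w j * v j := fun w => by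
      conv_lhs => rw [pi_eq_sum_univ' w]
      rw [map_sum]
      exact Finset.sum_congr rfl fun j _ => by rw [map_smul, smul_eq_mul]
    obtain ⟨b, hb⟩ := IsLocalization.exist_integer_multiples_of_finite (nonZeroDivisors C) v
    choose w hw using fun j => hb j
    have hb0 : algebraMap C L (b : C) ≠ 0 := fun h0 =>
      nonZeroDivisors.coe_ne_zero b (hιinj (h0.trans (map_zero _).symm))
    let δ₀ : R → C := fun x => ∑ j, Ideal.Quotient.mk p (D j x) * w j
    have hδ₀ : ∀ x, algebraMap C L (δ₀ x) = algebraMap C L (b : C) * (ℓ : Module.Dual L (Fin r → L)) (grad φ D x) := fun x => by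
      rw [hℓv, Finset.mul_sum, map_sum]
      refine Finset.sum_congr rfl fun j _ => ?_
      rw [map_mul, hw, Algebra.smul_def]
      show φ (D j x) * _ = _
      simp only [grad]
      ring
    have hδp : ∀ x ∈ p, δ₀ x = 0 := fun x hx => hιinj (by
      rw [hδ₀, map_zero, (Submodule.mem_dualAnnihilator _).1 ℓ.2 _ (Submodule.subset_span ⟨x, hx, rfl⟩), mul_zero])
    let dlin : R →ₗ[k] C :=
      { toFun := δ₀
        map_add' := fun x y => by simp [δ₀, add_mul, Finset.sum_add_distrib]
        map_smul' := fun c x => by
          rw [RingHom.id_apply]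
          simp only [δ₀, Finset.smul_sum, Derivation.map_smul]
          exact Finset.sum_congr rfl fun j _ => by
            rw [← Ideal.Quotient.mkₐ_eq_mk k, map_smul, smul_mul_assoc] }
    let d₁ : C →ₗ[k] C := ((p.restrictScalars k).liftQ dlin (fun x hx => hδp x hx)).comp
      (Submodule.Quotient.restrictScalarsEquiv k p).symm.toLinearMap
    have hd₁ : ∀ x, d₁ (Ideal.Quotient.mk p x) = δ₀ x := fun x => rfl
    let d : Derivation k C C := Derivation.mk' d₁ fun x y => by
      obtain ⟨x, rfl⟩ := Ideal.Quotient.mk_surjective x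
      obtain ⟨y, rfl⟩ := Ideal.Quotient.mk_surjective y
      rw [← map_mul, hd₁, hd₁, hd₁]
      simp only [δ₀, Derivation.leibniz, smul_eq_mul, map_add, map_mul]
      rw [Finset.mul_sum, Finset.mul_sum, ← Finset.sum_add_distrib]
      exact Finset.sum_congr rfl fun j _ => by ring
    have hPX : ∀ i, d (algebraMap P C (MvPowerSeries.X i)) = 0 := fun i => by
      rw [← ha i]
      show d₁ (Ideal.Quotient.mk p (a i)) = 0
      rw [hd₁]
      refine hιinj ?_
      rw [hδ₀, map_zero, show (ℓ : Module.Dual L (Fin r → L)) (grad φ D (a i)) = 0 from congrFun hℓ i, mul_zero]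
    have hP : ∀ z, d (algebraMap P C z) = 0 := fun z => derivation_eq_zero (d.compAlgebraMap P) hPX z
    let dP : Derivation P C C := Derivation.mk'
      { toFun := d
        map_add' := map_add d
        map_smul' := fun z x => by
          rw [Algebra.smul_def, d.leibniz, hP, smul_zero, add_zero, RingHom.id_apply, algebraMap_smul] }
      fun x y => d.leibniz x y
    have hv0 : ∀ j, v j = 0 := fun j => by
      have h1 : d (Ideal.Quotient.mk p (MvPowerSeries.X j)) = 0 :=
        derivation_eq_zero_of_separable (L' := L') hιinj dP _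
      have h2 : δ₀ (MvPowerSeries.X j) = w j := by
        simp only [δ₀, D]
        rw [Finset.sum_eq_single j]
        · rw [MvPowerSeries.pderiv_X_self, map_one, one_mul]
        · intro i _ hi
          rw [MvPowerSeries.pderiv_X_of_ne (Ne.symm hi), map_zero, zero_mul]
        · intro h; exact absurd (Finset.mem_univ j) h
      have h3 : w j = 0 := h2.symm.trans h1
      have h4 := hw j
      rw [h3, map_zero, Algebra.smul_def] at h4
      exact (mul_eq_zero.1 h4.symm).resolve_left hb0
    refine Subtype.ext (LinearMap.ext fun w => ?_)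
    rw [hℓv]
    simp [hv0]
  have hann := (LinearMap.finrank_le_finrank_of_injective hΨ).trans (Module.finrank_fin_fun L).le
  have hsum := Subspace.finrank_add_finrank_dualAnnihilator_eq W
  rw [Module.finrank_fin_fun] at hsum
  -- the height bound
  have hdimC : ringKrullDim C = s := by
    rw [VarDim.ringKrullDim_eq_of_isIntegral (R := P) hinj, H2Alg.PSHom.ringKrullDim_eq]
  haveI : IsLocalRing C := IsLocalRing.of_surjective' _ Ideal.Quotient.mk_surjective
  have hht : ((maximalIdeal (Localization.AtPrime p)).spanFinrank : WithBot ℕ∞) + s ≤ r := by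
    rw [IsRegularLocalRing.spanFinrank_maximalIdeal, IsLocalization.AtPrime.ringKrullDim_eq_height p]
    have h5 := LocCohLib.height_add_quotient_le ⟨p, ‹_›⟩ ⟨maximalIdeal R, inferInstance⟩ (le_maximalIdeal ‹p.IsPrime›.ne_top)
    rw [map_maximalIdeal_of_surjective _ Ideal.Quotient.mk_surjective] at h5
    have h6 := (WithBot.coe_le_coe.2 h5)
    rw [WithBot.coe_add, maximalIdeal_height_eq_ringKrullDim, maximalIdeal_height_eq_ringKrullDim] at h6
    rw [← hdimC, ← H2Alg.PSHom.ringKrullDim_eq k r]
    exact h6
  have h7 : (maximalIdeal (Localization.AtPrime p)).spanFinrank + s ≤ r := by exact_mod_cast hht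
  change _ ≤ Module.finrank L W
  omega

end Groth.Agent.JacPS3
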