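import Groth.Prelude.Def_CAlgX
import Groth.Agent.Lib.CplDomain.DerivExtend
import Mathlib.LinearAlgebra.Matrix.NonsingularInverse

/-! # Jacobian criterion: sufficiency -/

set_option autoImplicit false
set_option linter.style.haveILetI false
universe u

namespace Groth.Agent.JacPS3

open IsLocalRing

theorem exists_derivation_localization {k P R : Type u} [CommRing k] [CommRing P] [CommRing R] [Algebra k P]
    [Algebra k R] [Algebra P R] [IsScalarTower k P R] (S : Submonoid P) [IsLocalization S R] (d : Derivation k P P) :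
    ∃ D : Derivation k R R, ∀ a, D (algebraMap P R a) = algebraMap P R (d a) := by
  let d' : Derivation ℤ P R := Derivation.mk' (AddMonoidHom.toIntLinearMap
      (AddMonoidHom.mk' (fun a => algebraMap P R (d a)) fun a b => by rw [map_add, map_add]))
    (fun a b => by
      show algebraMap P R (d (a * b)) = a • algebraMap P R (d b) + b • algebraMap P R (d a)
      rw [d.leibniz, map_add, smul_eq_mul, smul_eq_mul, map_mul, map_mul, Algebra.smul_def, Algebra.smul_def])
  obtain ⟨D, hD⟩ := CplDomain.exists_derivation_localization S (R := R) d'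
  have hk : ∀ c : k, D (algebraMap k R c) = 0 := fun c => by
    rw [IsScalarTower.algebraMap_apply k P R, hD]
    show algebraMap P R (d (algebraMap k P c)) = 0
    rw [Derivation.map_algebraMap, map_zero]
  refine ⟨Derivation.mk' { toFun := D, map_add' := map_add D, map_smul' := fun c x => ?_ } (fun a b => D.leibniz a b),
    fun a => hD a⟩
  rw [Algebra.smul_def, D.leibniz, hk, smul_zero, add_zero, RingHom.id_apply, algebraMap_smul]

/-- A quotient of a formally smooth algebra by equations with invertible Jacobian is formally smooth. -/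
theorem isAdicFormallySmooth_quotient_of_jacobian {k R S : Type u} [CommRing k] [CommRing R] [IsLocalRing R]
    [CommRing S] [IsLocalRing S] [Algebra k R] [Algebra k S] (h : CAlgX.IsAdicFormallySmooth k R (maximalIdeal R))
    (π : R →ₐ[k] S) (hπ : Function.Surjective π) {m : ℕ} (f : Fin m → R)
    (hker : RingHom.ker π.toRingHom = Ideal.span (Set.range f)) (D : Fin m → Derivation k R R)
    (hdet : IsUnit (Matrix.det (Matrix.of fun i j => D i (f j)))) :
    CAlgX.IsAdicFormallySmooth k S (maximalIdeal S) := by
  classical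
  intro C _ _ J hJ ψ hψ
  obtain ⟨n, hn⟩ := hψ
  haveI := IsLocalHom.of_surjective π.toRingHom hπ
  obtain ⟨χ, hχ⟩ := h C J hJ (ψ.comp π) ⟨n, fun x hx => hn _ (by
    rw [← map_maximalIdeal_of_surjective π.toRingHom hπ, ← Ideal.map_pow]
    exact Ideal.mem_map_of_mem _ hx)⟩
  have hχf : ∀ j, χ (f j) ∈ J := fun j => by
    rw [← Ideal.Quotient.eq_zero_iff_mem]
    have h1 := AlgHom.congr_fun hχ (f j)
    exact h1.trans (by
      show ψ (π (f j)) = 0
      rw [show π (f j) = 0 from RingHom.mem_ker.1 (hker.ge (Ideal.subset_span ⟨j, rfl⟩) : f j ∈ RingHom.ker π.toRingHom),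
        map_zero])
  let M : Matrix (Fin m) (Fin m) C := fun i j => χ (D i (f j))
  have hM : IsUnit M.det := by
    have : M.det = χ (Matrix.det (Matrix.of fun i j => D i (f j))) :=
      ((AlgHom.map_det χ _).trans rfl).symm
    rw [this]
    exact hdet.map χ
  let c : Fin m → C := Matrix.vecMul (fun j => -χ (f j)) M⁻¹
  have hc : ∀ i, c i ∈ J := fun i => by
    simp only [c, Matrix.vecMul, dotProduct]
    exact J.sum_mem fun j _ => J.mul_mem_right _ (J.neg_mem (hχf j))
  have hcM : ∀ j, ∑ i, c i * χ (D i (f j)) = -χ (f j) := fun j => by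
    have h2 : Matrix.vecMul c M = fun j => -χ (f j) := by
      simp only [c]
      rw [Matrix.vecMul_vecMul, Matrix.nonsing_inv_mul _ hM, Matrix.vecMul_one]
    exact congrFun h2 j
  let δ : R → C := fun a => ∑ i, c i * χ (D i a)
  have hδJ : ∀ a, δ a ∈ J := fun a => J.sum_mem fun i _ => J.mul_mem_right _ (hc i)
  have hJJ : ∀ {a b : C}, a ∈ J → b ∈ J → a * b = 0 := fun ha hb => by
    have := Ideal.mul_mem_mul ha hb
    rwa [← pow_two, hJ, Ideal.mem_bot] at this
  let χ' : R →ₐ[k] C :=
    { toFun := fun a => χ a + δ a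
      map_one' := by simp [δ]
      map_mul' := fun a b => by
        have h3 : δ (a * b) = χ a * δ b + χ b * δ a := by
          simp only [δ, Derivation.leibniz, smul_eq_mul, map_add, map_mul, Finset.mul_sum, ← Finset.sum_add_distrib]
          exact Finset.sum_congr rfl fun i _ => by ring
        rw [map_mul, h3]
        linear_combination -hJJ (hδJ a) (hδJ b)
      map_zero' := by simp [δ]
      map_add' := fun a b => by
        simp only [δ, map_add, mul_add, Finset.sum_add_distrib]
        ring
      commutes' := fun a => by simp [δ] }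
  have hkill : ∀ x ∈ RingHom.ker π.toRingHom, χ' x = 0 := by
    intro x hx
    rw [hker] at hx
    refine RingHom.mem_ker.1 ((Ideal.span_le (I := RingHom.ker χ'.toRingHom)).2 ?_ hx)
    rintro _ ⟨j, rfl⟩
    show χ (f j) + δ (f j) = 0
    rw [show δ (f j) = -χ (f j) from hcM j, add_neg_cancel]
  let θ : S →ₐ[k] C :=
    (Ideal.Quotient.liftₐ (RingHom.ker π.toRingHom) χ' hkill).comp
      (Ideal.quotientKerAlgEquivOfSurjective (f := π) hπ).symm.toAlgHom
  refine ⟨θ, AlgHom.ext fun s => ?_⟩
  obtain ⟨a, rfl⟩ := hπ s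
  have hs : (Ideal.quotientKerAlgEquivOfSurjective (f := π) hπ).symm (π a) = Ideal.Quotient.mk _ a := by
    rw [AlgEquiv.symm_apply_eq]
    rfl
  show Ideal.Quotient.mk J (Ideal.Quotient.liftₐ _ χ' hkill
    ((Ideal.quotientKerAlgEquivOfSurjective (f := π) hπ).symm (π a))) = ψ (π a)
  rw [hs]
  show Ideal.Quotient.mk J (χ a + δ a) = ψ (π a)
  rw [map_add, Ideal.Quotient.eq_zero_iff_mem.2 (hδJ a), add_zero]
  exact AlgHom.congr_fun hχ a

end Groth.Agent.JacPS3
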